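import Cfsg.Agent.Lib.RigidGraph.He.Coset.AbcdeCert
import Cfsg.Agent.Lib.RigidGraph.He.Coset.AbcdeGens

/-! Coset enumeration certificate data (MREG). -/

set_option autoImplicit false
set_option maxRecDepth 100000
set_option Elab.async false

namespace Cfsg.Agent.RigidGraph.He.Coset.Abcde

open Cfsg.Agent.CosetCert

theorem rots_ok : rotsOK base rots.entries hints = true := by decide +kernel

theorem fix_ok : wordsFixBase P sw = true := by decide +kernel

theorem tree_ok : treeOK P tree 0 = true := by decide +kernel

theorem tree_len : tree.length + 1 = 15120 := by decide +kernel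

end Cfsg.Agent.RigidGraph.He.Coset.Abcde
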