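import Cfsg.Agent.Lib.RigidGraph.He.Coset.AbcdeTree
import Cfsg.Agent.Lib.RigidGraph.He.Coset.AbcdeSeg0
import Cfsg.Agent.Lib.RigidGraph.He.Coset.AbcdeSeg1

/-! Coset enumeration certificate data (MREG). -/

set_option autoImplicit false
set_option maxRecDepth 100000
set_option Elab.async false

namespace Cfsg.Agent.RigidGraph.He.Coset.Abcde

open Cfsg.Agent.CosetCert

/-- the certificate -/
def phases : List Phase :=
  seg0 ++ (seg1 ++ (seg2 ++ (seg3 ++ (seg4 ++ (seg5 ++ (seg6 ++ (seg7 ++ (seg8 ++ (seg9 ++ (seg10 ++ (seg11)))))))))))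

theorem cert_ok : checkCert P 15120 tree phases = true :=
  checkCert_of_run P treeRun_ok (run_append P seg0_ok (run_append P seg1_ok (run_append P seg2_ok (run_append P seg3_ok (run_append P seg4_ok (run_append P seg5_ok (run_append P seg6_ok (run_append P seg7_ok (run_append P seg8_ok (run_append P seg9_ok (run_append P seg10_ok (run_last P seg11_ok))))))))))))

end Cfsg.Agent.RigidGraph.He.Coset.Abcde
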