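import Cfsg.Agent.Lib.RigidGraph.He.Coset.FullTree
import Cfsg.Agent.Lib.RigidGraph.He.Coset.FullSeg0
import Cfsg.Agent.Lib.RigidGraph.He.Coset.FullSeg1
import Cfsg.Agent.Lib.RigidGraph.He.Coset.FullSeg2
import Cfsg.Agent.Lib.RigidGraph.He.Coset.FullSeg3

/-! Coset enumeration certificate data (HECA2). -/

set_option autoImplicit false
set_option maxRecDepth 100000
set_option Elab.async false

namespace Cfsg.Agent.RigidGraph.He.Coset.Full

open Cfsg.Agent.CosetCert

/-- the certificate -/
def phases : List Phase :=
  seg0 ++ (seg1 ++ (seg2 ++ (seg3 ++ (seg4 ++ (seg5 ++ (seg6 ++ (seg7 ++ (seg8 ++ (seg9 ++ (seg10 ++ (seg11 ++ (seg12 ++ (seg13 ++ (seg14 ++ (seg15 ++ (seg16 ++ (seg17 ++ (seg18 ++ (seg19 ++ (seg20 ++ (seg21 ++ (seg22 ++ (seg23 ++ (seg24 ++ (seg25 ++ (seg26 ++ (seg27 ++ (seg28 ++ (seg29 ++ (seg30 ++ (seg31)))))))))))))))))))))))))))))))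

theorem cert_ok : checkCert P 24990 tree phases = true :=
  checkCert_of_run P treeRun_ok (run_append P seg0_ok (run_append P seg1_ok (run_append P seg2_ok (run_append P seg3_ok (run_append P seg4_ok (run_append P seg5_ok (run_append P seg6_ok (run_append P seg7_ok (run_append P seg8_ok (run_append P seg9_ok (run_append P seg10_ok (run_append P seg11_ok (run_append P seg12_ok (run_append P seg13_ok (run_append P seg14_ok (run_append P seg15_ok (run_append P seg16_ok (run_append P seg17_ok (run_append P seg18_ok (run_append P seg19_ok (run_append P seg20_ok (run_append P seg21_ok (run_append P seg22_ok (run_append P seg23_ok (run_append P seg24_ok (run_append P seg25_ok (run_append P seg26_ok (run_append P seg27_ok (run_append P seg28_ok (run_append P seg29_ok (run_append P seg30_ok (run_last P seg31_ok))))))))))))))))))))))))))))))))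

end Cfsg.Agent.RigidGraph.He.Coset.Full
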