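import Cfsg.Agent.Lib.RigidGraph.He.Coset.FullTab

/-! Coset enumeration certificate data (HECA2). -/

set_option autoImplicit false
set_option maxRecDepth 100000
set_option Elab.async false

namespace Cfsg.Agent.RigidGraph.He.Coset.Full

open Cfsg.Agent.CosetCert

theorem treeRun_ok : stIs (runList (treeStep P) tree ⟨1, 0, []⟩) 24990 mask0 = true := by decide +kernel

end Cfsg.Agent.RigidGraph.He.Coset.Full
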